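import Mathlib

set_option autoImplicit false
universe u

open TensorProduct KaehlerDifferential

namespace Groth.Agent.H5.ExtOfSeq

section Central

variable (C : Type u) (L' : Type u) [CommRing C] [AddCommGroup L'] [Module C L']

/-- the opposite action (for the ring structure on `TrivSqZeroExt`). -/
abbrev opModule : Module Cᵐᵒᵖ L' := Module.compHom L' (RingEquiv.toOpposite C).symm.toRingHom

attribute [local instance] opModule

theorem isCentralScalar_opModule : IsCentralScalar C L' := ⟨fun _ _ => rfl⟩

end Central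

attribute [local instance] opModule isCentralScalar_opModule

variable {A B : Type u} [CommRing A] [CommRing B] [Algebra A B]
variable {N : Type u} [AddCommGroup N] [Module B N] (q : N →ₗ[B] Ω[B⁄A])

/-- the subring `{(b, n) | d b = q n}` of `B ⊕ N`. -/
def ESub : Subring (TrivSqZeroExt B N) where
  carrier := {x | D A B x.fst = q x.snd}
  mul_mem' := by
    intro x y hx hy
    simp only [Set.mem_ofPred_eq] at *
    rw [TrivSqZeroExt.fst_mul, TrivSqZeroExt.snd_mul, Derivation.leibniz, map_add, hx, hy,
      op_smul_eq_smul, map_smul, map_smul]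
  one_mem' := by
    simp only [Set.mem_ofPred_eq]
    rw [TrivSqZeroExt.fst_one, TrivSqZeroExt.snd_one, map_zero]
    exact Derivation.map_one_eq_zero _
  add_mem' := by
    intro x y hx hy
    simp only [Set.mem_ofPred_eq] at *
    rw [TrivSqZeroExt.fst_add, TrivSqZeroExt.snd_add, map_add, map_add, hx, hy]
  zero_mem' := by
    simp only [Set.mem_ofPred_eq]
    rw [TrivSqZeroExt.fst_zero, TrivSqZeroExt.snd_zero, map_zero, map_zero]
  neg_mem' := by
    intro x hx
    simp only [Set.mem_ofPred_eq] at *
    rw [TrivSqZeroExt.fst_neg, TrivSqZeroExt.snd_neg, map_neg, map_neg, hx]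

lemma mem_ESub (x : TrivSqZeroExt B N) : x ∈ ESub q ↔ D A B x.fst = q x.snd := Iff.rfl

/-- the structure map `A → E`. -/
def ιA : A →+* ESub q :=
  RingHom.codRestrict ((TrivSqZeroExt.inlHom B N).comp (algebraMap A B)) (ESub q) (by
    intro a
    rw [mem_ESub]
    simp)

instance algE : Algebra A (ESub q) := (ιA q).toAlgebra

lemma algebraMap_E_val (a : A) :
    ((algebraMap A (ESub q) a : ESub q) : TrivSqZeroExt B N) = TrivSqZeroExt.inl (algebraMap A B a) :=
  rfl

/-- the projection `E → B`. -/
def piA : ESub q →ₐ[A] B where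
  toRingHom := (TrivSqZeroExt.fstHom B B N).toRingHom.comp (ESub q).subtype
  commutes' := by
    intro a
    show TrivSqZeroExt.fst ((algebraMap A (ESub q) a : ESub q) : TrivSqZeroExt B N) = _
    rw [algebraMap_E_val, TrivSqZeroExt.fst_inl]

lemma piA_apply (x : ESub q) : piA q x = x.1.fst := rfl

lemma piA_surjective (hq : Function.Surjective q) : Function.Surjective (piA q) := by
  intro b
  obtain ⟨n, hn⟩ := hq (D A B b)
  refine ⟨⟨⟨b, n⟩, ?_⟩, rfl⟩
  rw [mem_ESub]
  exact hn.symm

/-- the extension. -/
noncomputable def ext (hq : Function.Surjective q) : Algebra.Extension.{u} A B :=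
  Algebra.Extension.ofSurjective (piA q) (piA_surjective q hq)

lemma ext_algebraMap (hq : Function.Surjective q) (x : (ext q hq).Ring) :
    algebraMap (ext q hq).Ring B x = TrivSqZeroExt.fst (x : ESub q).1 := rfl

lemma ext_ker_sq (hq : Function.Surjective q) : (ext q hq).ker ^ 2 = ⊥ := by
  rw [eq_bot_iff, sq, Ideal.mul_le]
  intro x hx y hy
  rw [RingHom.mem_ker, ext_algebraMap] at hx hy
  rw [Ideal.mem_bot]
  apply Subtype.ext
  apply TrivSqZeroExt.ext
  · show (x.1 * y.1).fst = 0
    rw [TrivSqZeroExt.fst_mul, hx, zero_mul]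
  · show (x.1 * y.1).snd = 0
    rw [TrivSqZeroExt.snd_mul, hx, hy, op_smul_eq_smul, zero_smul, zero_smul, add_zero]

end Groth.Agent.H5.ExtOfSeq
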