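import Mathlib
import Groth.Agent.Lib.Helper5.ExtOfSeq.A

set_option autoImplicit false
universe u

open TensorProduct KaehlerDifferential

namespace Groth.Agent.H5.ExtOfSeq

attribute [local instance] opModule isCentralScalar_opModule

variable {A B : Type u} [CommRing A] [CommRing B] [Algebra A B]
variable {N : Type u} [AddCommGroup N] [Module B N] (q : N →ₗ[B] Ω[B⁄A])
variable {M : Type u} [AddCommGroup M] [Module B M] (i : M →ₗ[B] N)
variable (hq : Function.Surjective q) (hex : Function.Exact i q)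

/-- `m ↦ (0, i m)` into the kernel. -/
def kerOf (m : M) : (ext q hq).ker :=
  ⟨⟨TrivSqZeroExt.inr (i m), by
    rw [mem_ESub, TrivSqZeroExt.fst_inr, TrivSqZeroExt.snd_inr, map_zero,
      hex.apply_apply_eq_zero]⟩, by
    rw [RingHom.mem_ker, ext_algebraMap]
    exact TrivSqZeroExt.fst_inr _ _⟩

lemma kerOf_val (m : M) : ((kerOf q i hq hex m).1 : ESub q).1 = TrivSqZeroExt.inr (i m) := rfl

lemma kerOf_add (m m' : M) : kerOf q i hq hex (m + m') = kerOf q i hq hex m + kerOf q i hq hex m' := by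
  apply Subtype.ext
  apply Subtype.ext
  show TrivSqZeroExt.inr (i (m + m')) = TrivSqZeroExt.inr (i m) + TrivSqZeroExt.inr (i m')
  rw [map_add, TrivSqZeroExt.inr_add]

lemma smul_kerOf (x : (ext q hq).Ring) (m : M) :
    x • kerOf q i hq hex m = kerOf q i hq hex (algebraMap (ext q hq).Ring B x • m) := by
  apply Subtype.ext
  apply Subtype.ext
  show (x : ESub q).1 * TrivSqZeroExt.inr (i m) = TrivSqZeroExt.inr (i (_ • m))
  rw [ext_algebraMap, map_smul]
  apply TrivSqZeroExt.ext
  · rw [TrivSqZeroExt.fst_mul, TrivSqZeroExt.fst_inr, TrivSqZeroExt.fst_inr, mul_zero]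
  · rw [TrivSqZeroExt.snd_mul, TrivSqZeroExt.snd_inr, TrivSqZeroExt.fst_inr, TrivSqZeroExt.snd_inr,
      op_smul_eq_smul, zero_smul, add_zero]

/-- `M → I/I²`. -/
noncomputable def gM : M →ₗ[B] (ext q hq).Cotangent where
  toFun m := Algebra.Extension.Cotangent.mk (kerOf q i hq hex m)
  map_add' m m' := by rw [kerOf_add, map_add]
  map_smul' b m := by
    obtain ⟨x, rfl⟩ := (ext q hq).algebraMap_surjective b
    rw [RingHom.id_apply, ← smul_kerOf, LinearMap.map_smul, algebraMap_smul]

lemma gM_apply (m : M) : gM q i hq hex m = Algebra.Extension.Cotangent.mk (kerOf q i hq hex m) := rfl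

lemma gM_injective (hi : Function.Injective i) : Function.Injective (gM q i hq hex) := by
  rw [injective_iff_map_eq_zero]
  intro m hm
  rw [gM_apply, Algebra.Extension.Cotangent.mk_eq_zero_iff, ext_ker_sq, Ideal.mem_bot] at hm
  have h1 : ((kerOf q i hq hex m).1 : ESub q).1 = 0 := by rw [hm]; rfl
  rw [kerOf_val] at h1
  have h2 := congrArg TrivSqZeroExt.snd h1
  rw [TrivSqZeroExt.snd_inr, TrivSqZeroExt.snd_zero] at h2
  exact hi (by rw [h2, map_zero])

lemma gM_surjective : Function.Surjective (gM q i hq hex) := by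
  intro w
  obtain ⟨z, rfl⟩ := Algebra.Extension.Cotangent.mk_surjective w
  have hz1 : (z.1 : ESub q).1.fst = 0 := by
    have := z.2
    rw [RingHom.mem_ker, ext_algebraMap] at this
    exact this
  have hz2 : q (z.1 : ESub q).1.snd = 0 := by
    have := (z.1 : ESub q).2
    rw [mem_ESub, hz1, map_zero] at this
    exact this.symm
  obtain ⟨m, hm⟩ := (hex _).mp hz2
  refine ⟨m, ?_⟩
  rw [gM_apply]
  congr 1
  apply Subtype.ext
  apply Subtype.ext
  rw [kerOf_val]
  apply TrivSqZeroExt.ext
  · rw [TrivSqZeroExt.fst_inr, hz1]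
  · rw [TrivSqZeroExt.snd_inr, hm]

/-- `I/I² ≃ M`. -/
noncomputable def e₁ (hi : Function.Injective i) : (ext q hq).Cotangent ≃ₗ[B] M :=
  (LinearEquiv.ofBijective (gM q i hq hex) ⟨gM_injective q i hq hex hi, gM_surjective q i hq hex⟩).symm

lemma e₁_mk (hi : Function.Injective i) (m : M) :
    e₁ q i hq hex hi (Algebra.Extension.Cotangent.mk (kerOf q i hq hex m)) = m := by
  rw [e₁, LinearEquiv.symm_apply_eq]
  rfl

end Groth.Agent.H5.ExtOfSeq
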