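import Mathlib
import Groth.Agent.Lib.Helper5.ExtOfSeq.B

set_option autoImplicit false
universe u

open TensorProduct KaehlerDifferential

namespace Groth.Agent.H5.ExtOfSeq

attribute [local instance] opModule isCentralScalar_opModule

variable {A B : Type u} [CommRing A] [CommRing B] [Algebra A B]
variable {N : Type u} [AddCommGroup N] [Module B N] (q : N →ₗ[B] Ω[B⁄A])
variable (hq : Function.Surjective q)

section Inst

variable [Module A N] [IsScalarTower A B N]

/-- `N` as `E`-module. -/
@[reducible] noncomputable def modE : Module (ext q hq).Ring N := Module.compHom N (algebraMap (ext q hq).Ring B)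

attribute [local instance] modE

omit [Module A N] [IsScalarTower A B N] in
lemma smulE_def (x : (ext q hq).Ring) (n : N) : x • n = algebraMap (ext q hq).Ring B x • n := rfl

lemma towerAEN : IsScalarTower A (ext q hq).Ring N := by
  constructor
  intro a x n
  rw [smulE_def, smulE_def, Algebra.smul_def, map_mul, mul_smul,
    ← IsScalarTower.algebraMap_apply, algebraMap_smul]

omit [Module A N] [IsScalarTower A B N] in
lemma towerEBN : IsScalarTower (ext q hq).Ring B N := by
  constructor
  intro x b n
  rw [smulE_def, Algebra.smul_def, mul_smul]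

attribute [local instance] towerAEN towerEBN

/-- the `A`-linear map `E → N`, `(b, n) ↦ n`. -/
noncomputable def sndLin : (ext q hq).Ring →ₗ[A] N where
  toFun x := (x : ESub q).1.snd
  map_add' x y := by
    show ((x : ESub q).1 + (y : ESub q).1).snd = _
    rw [TrivSqZeroExt.snd_add]
  map_smul' a x := by
    show ((algebraMap A (ESub q) a : ESub q).1 * (x : ESub q).1).snd = a • (x : ESub q).1.snd
    rw [algebraMap_E_val, TrivSqZeroExt.snd_mul, TrivSqZeroExt.fst_inl, TrivSqZeroExt.snd_inl,
      smul_zero, add_zero, algebraMap_smul]

/-- the derivation `E → N`, `(b, n) ↦ n`. -/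
noncomputable def δ : Derivation A (ext q hq).Ring N :=
  Derivation.mk' (sndLin q hq) (by
    intro x y
    show ((x : ESub q).1 * (y : ESub q).1).snd = x • (y : ESub q).1.snd + y • (x : ESub q).1.snd
    rw [TrivSqZeroExt.snd_mul, op_smul_eq_smul, smulE_def, smulE_def, ext_algebraMap,
      ext_algebraMap])

lemma δ_apply (x : (ext q hq).Ring) : δ q hq x = (x : ESub q).1.snd := rfl

/-- the map `B ⊗_E Ω_{E/A} → N`. -/
noncomputable def e2map : (ext q hq).CotangentSpace →ₗ[B] N :=
  LinearMap.liftBaseChange B (δ q hq).liftKaehlerDifferential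

lemma e2map_tmul_D (b : B) (x : (ext q hq).Ring) :
    e2map q hq (b ⊗ₜ[(ext q hq).Ring] D A (ext q hq).Ring x) = b • (x : ESub q).1.snd := by
  rw [e2map, LinearMap.liftBaseChange_tmul, Derivation.liftKaehlerDifferential_comp_D, δ_apply]

lemma q_e2map (y : (ext q hq).CotangentSpace) :
    q (e2map q hq y) = (ext q hq).toKaehler y := by
  induction y using TensorProduct.induction_on with
  | zero => rw [map_zero, map_zero, map_zero]
  | add y y' h h' => rw [map_add, map_add, map_add, h, h']
  | tmul b ω =>
    have hω : ω ∈ Submodule.span (ext q hq).Ring (Set.range (D A (ext q hq).Ring)) := by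
      rw [KaehlerDifferential.span_range_derivation]; trivial
    revert b
    induction hω using Submodule.span_induction with
    | mem ω h =>
      obtain ⟨x, rfl⟩ := h
      intro b
      rw [e2map_tmul_D, map_smul]
      have h1 : (ext q hq).toKaehler (b ⊗ₜ[(ext q hq).Ring] D A (ext q hq).Ring x) =
          b • D A B (algebraMap (ext q hq).Ring B x) := by
        simp [Algebra.Extension.toKaehler]
      rw [h1, ext_algebraMap]
      congr 1
      exact ((mem_ESub q _).mp (x : ESub q).2).symm
    | zero => intro b; rw [tmul_zero, map_zero, map_zero, map_zero]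
    | add ω ω' _ _ h h' => intro b; rw [tmul_add, map_add, map_add, map_add, h, h']
    | smul e ω _ h =>
      intro b
      rw [← smul_tmul]
      exact h _

end Inst

end Groth.Agent.H5.ExtOfSeq
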