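import Mathlib
import Groth.Agent.Lib.Helper5.ExtOfSeq.C

set_option autoImplicit false
universe u

open TensorProduct KaehlerDifferential

namespace Groth.Agent.H5.ExtOfSeq

attribute [local instance] opModule isCentralScalar_opModule

variable {A B : Type u} [CommRing A] [CommRing B] [Algebra A B]
variable {N : Type u} [AddCommGroup N] [Module B N] (q : N →ₗ[B] Ω[B⁄A])
variable {M : Type u} [AddCommGroup M] [Module B M] (i : M →ₗ[B] N)
variable (hq : Function.Surjective q) (hex : Function.Exact i q)

section
variable [Module A N] [IsScalarTower A B N]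

lemma e2map_comm (hi : Function.Injective i) (x : (ext q hq).Cotangent) :
    e2map q hq ((ext q hq).cotangentComplex x) = i (e₁ q i hq hex hi x) := by
  obtain ⟨m, rfl⟩ := gM_surjective q i hq hex x
  rw [gM_apply, e₁_mk, Algebra.Extension.cotangentComplex_mk, e2map_tmul_D, one_smul, kerOf_val,
    TrivSqZeroExt.snd_inr]

include hex in
lemma e2map_injective (hi : Function.Injective i) : Function.Injective (e2map q hq) := by
  rw [injective_iff_map_eq_zero]
  intro y hy
  have h1 : (ext q hq).toKaehler y = 0 := by rw [← q_e2map, hy, map_zero]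
  obtain ⟨w, rfl⟩ := ((ext q hq).exact_cotangentComplex_toKaehler y).mp h1
  rw [e2map_comm q i hq hex hi] at hy
  have h2 : e₁ q i hq hex hi w = 0 := hi (by rw [hy, map_zero])
  have h3 : w = 0 := (e₁ q i hq hex hi).injective (by rw [h2, map_zero])
  rw [h3, map_zero]

include hex in
lemma e2map_surjective (hi : Function.Injective i) : Function.Surjective (e2map q hq) := by
  intro n
  obtain ⟨y, hy⟩ := (ext q hq).toKaehler_surjective (q n)
  have h1 : q (n - e2map q hq y) = 0 := by rw [map_sub, q_e2map, hy, sub_self]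
  obtain ⟨m, hm⟩ := (hex _).mp h1
  refine ⟨y + (ext q hq).cotangentComplex ((e₁ q i hq hex hi).symm m), ?_⟩
  rw [map_add, e2map_comm q i hq hex hi, LinearEquiv.apply_symm_apply, hm]
  abel

end

theorem main (M N : Type u) [AddCommGroup M] [Module B M] [AddCommGroup N] [Module B N]
    (i : M →ₗ[B] N) (q : N →ₗ[B] Ω[B⁄A]) (hi : Function.Injective i) (hq : Function.Surjective q)
    (hex : Function.Exact i q) :
    ∃ P : Algebra.Extension.{u} A B, P.ker ^ 2 = ⊥ ∧
      ∃ (e₁ : P.Cotangent ≃ₗ[B] M) (e₂ : P.CotangentSpace ≃ₗ[B] N),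
        (∀ x, e₂ (P.cotangentComplex x) = i (e₁ x)) ∧ (∀ y, q (e₂ y) = P.toKaehler y) := by
  letI : Module A N := Module.compHom N (algebraMap A B)
  haveI : IsScalarTower A B N := ⟨fun a b n => by
    show (a • b) • n = algebraMap A B a • b • n
    rw [Algebra.smul_def, mul_smul]⟩
  refine ⟨ext q hq, ext_ker_sq q hq, e₁ q i hq hex hi,
    LinearEquiv.ofBijective (e2map q hq)
      ⟨e2map_injective q i hq hex hi, e2map_surjective q i hq hex hi⟩, ?_, ?_⟩
  · intro x
    exact e2map_comm q i hq hex hi x
  · intro y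
    exact q_e2map q hq y

end Groth.Agent.H5.ExtOfSeq
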